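import Groth.Agent.DimIneqCor.Basic

/-!
# Dimension along closed dominant morphisms
-/

set_option autoImplicit false
set_option linter.style.haveILetI false
universe u

open AlgebraicGeometry CategoryTheory Order Topology

namespace Groth.Agent.DimIneqCor

open DimFormula

theorem exists_lift {X Y : Scheme.{u}} (f : X ⟶ Y) (hf : IsClosedMap f.base) {x : X} {y : Y}
    (h : f x ⤳ y) : ∃ x', x ⤳ x' ∧ f x' = y := by
  have hc := hf _ (isClosed_closure (s := ({x} : Set X)))
  obtain ⟨x', hx', he⟩ := h.mem_closed hc ⟨x, subset_closure rfl, rfl⟩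
  exact ⟨x', specializes_iff_mem_closure.2 hx', he⟩

theorem exists_series_lift {X Y : Scheme.{u}} (f : X ⟶ Y) (hf : IsClosedMap f.base) :
    ∀ (d : ℕ) (m : LTSeries ↥Y), m.length = d → ∀ x : X, f x ⤳ m.last →
      ∃ l : LTSeries ↥X, l.length = d ∧ x ⤳ l.last ∧ f l.last = m.last
  | 0, m, _, x, hx => by
      obtain ⟨x', h1, h2⟩ := exists_lift f hf hx
      exact ⟨RelSeries.singleton _ x', rfl, h1, h2⟩
  | d + 1, m, hm, x, hx => by
      obtain ⟨x', h1, h2⟩ := exists_lift f hf hx
      have hlt : m.eraseLast.last < m.last := RelSeries.eraseLast_last_rel_last m (by omega)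
      obtain ⟨l, hl, hl1, hl2⟩ := exists_series_lift f hf d m.eraseLast
        (by rw [RelSeries.eraseLast_length]; omega) x' (by rw [h2]; exact le_def'.1 hlt.le)
      have hne : l.last ≠ x' := fun e => hlt.ne (by rw [← hl2, e, h2])
      have hlt' : l.last < x' :=
        lt_of_le_not_ge (α := X) hl1 fun h => hne (eq_of_specializes_of_specializes h hl1)
      exact ⟨l.snoc x' hlt', by simp [RelSeries.snoc, RelSeries.append, hl], by rwa [RelSeries.last_snoc],
        by rwa [RelSeries.last_snoc]⟩

theorem add_le_dim_of_isClosedMap {X Y : Scheme.{u}} [IsIntegral X] [IsIntegral Y] [IsLocallyNoetherian Y]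
    (f : X ⟶ Y) [IsDominant f] [LocallyOfFiniteType f] (hf : IsClosedMap f.base) :
    topologicalKrullDim ↥Y + ((FibDim.rd f (genericPoint X) : ℕ∞) : WithBot ℕ∞) ≤ topologicalKrullDim ↥X := by
  haveI := LocallyOfFiniteType.isLocallyNoetherian f
  set η := genericPoint X
  have hsurj : Function.Surjective f.base := by
    rw [← Set.range_eq_univ, ← hf.isClosed_range.closure_eq]
    exact f.denseRange.closure_range
  have hη : f η = genericPoint Y := by
    obtain ⟨x₀, hx₀⟩ := hsurj (genericPoint Y)
    refine eq_of_specializes_of_specializes ?_ ((genericPoint_spec Y).specializes (Set.mem_univ _))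
    rw [← hx₀]
    exact ((genericPoint_spec X).specializes (Set.mem_univ x₀)).map f.continuous
  obtain ⟨x, hx, hrd⟩ := exists_rd_eq_zero f ⟨η, rfl⟩
  have hxη : η ⤳ x := (genericPoint_spec X).specializes (Set.mem_univ x)
  have hcd : cd η x = FibDim.rd f η := by
    have hy : CAlg.IsUniversallyCatenary (Y.presheaf.stalk (f x)) := by
      rw [hx, hη]
      exact @isUniversallyCatenary_field (Y.presheaf.stalk (genericPoint Y))
        (inferInstanceAs (Field Y.functionField))
    have := (cd_formula f hxη).2 hy
    rwa [hrd, add_zero, hx, cd_self, zero_add] at this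
  obtain ⟨c, hc0, -, hc⟩ := exists_cd_series hxη
  have key : ∀ m : LTSeries ↥Y,
      (((m.length + FibDim.rd f η : ℕ) : ℕ∞) : WithBot ℕ∞) ≤ topologicalKrullDim ↥X := by
    intro m
    obtain ⟨l, hl, hl1, -⟩ := exists_series_lift f hf m.length m rfl x
      (by rw [hx, hη]; exact (genericPoint_spec Y).specializes (Set.mem_univ _))
    rw [topDim_eq_krullDim, ← hcd, ← hc, ← hl]
    by_cases he : l.last = x
    · refine le_trans ?_ (LTSeries.length_le_krullDim (RelSeries.smash l c (he.trans hc0.symm)))
      exact le_of_eq (by simp [RelSeries.smash])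
    · have hlt : l.last < c.head := by
        rw [hc0]
        exact lt_of_le_not_ge (α := X) hl1 fun h => he (eq_of_specializes_of_specializes h hl1)
      refine le_trans ?_ (LTSeries.length_le_krullDim (RelSeries.append l c hlt))
      exact_mod_cast (show l.length + c.length ≤ l.length + c.length + 1 by omega)
  rw [topDim_eq_krullDim Y]
  obtain ⟨D, hD⟩ : ∃ D : ℕ∞, topologicalKrullDim ↥X = (D : WithBot ℕ∞) := by
    have h := codim_le_dim η
    rcases hd : topologicalKrullDim ↥X with _ | D
    · rw [hd] at h; exact absurd (le_bot_iff.1 h) WithBot.coe_ne_bot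
    · exact ⟨D, rfl⟩
  rw [hD] at key ⊢
  induction D with
  | top => exact le_top
  | coe d =>
    have he : FibDim.rd f η ≤ d := by
      have : 0 + FibDim.rd f η ≤ d := by exact_mod_cast key (RelSeries.singleton _ (genericPoint Y))
      omega
    refine le_trans (add_le_add (iSup_le (a := (((d - FibDim.rd f η : ℕ) : ℕ∞) : WithBot ℕ∞))
      fun m => ?_) le_rfl) ?_
    · have : m.length + FibDim.rd f η ≤ d := by exact_mod_cast key m
      exact_mod_cast (show m.length ≤ d - FibDim.rd f η by omega)
    · exact_mod_cast (show d - FibDim.rd f η + FibDim.rd f η ≤ d by omega)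

end Groth.Agent.DimIneqCor
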